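import Cfsg.Agent.H189.TP.Frm
import Cfsg.Agent.H104.UpNine

/-!
# Block TP (S3536): upper bounds for the element orders of `Ω_{2n+1}(q)`, `n = 2 ^ k ≥ 8` (helper189)
-/

set_option autoImplicit false
set_option linter.unusedSectionVars false

namespace Cfsg.Agent.H189.TP

open QuadraticMap Module
open Cfsg.Agent.LieClassical.OrthCore Cfsg.Agent.H160.QSpin Cfsg.Agent.H160.QDisc Cfsg.Agent.H160.QSplit
  Cfsg.Agent.H160.QSemi Cfsg.Agent.H160.QRoots Cfsg.Agent.H160.QChar Cfsg.Agent.H160.QUpper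
open Cfsg.Agent.H202.TP

universe u

section

variable {F : Type u} [Field F] [Fintype F] [DecidableEq F] {V : Type u} [AddCommGroup V] [Module F V]
  [FiniteDimensional F V] [Finite V] {p : ℕ} [hp : Fact p.Prime] [CharP F p]

theorem frm (h2 : (2 : F) ≠ 0) {Q : QuadraticForm F V} (hQ : Nondeg Q) {n : ℕ} (hn : 1 ≤ n)
    (hV : finrank F V = 2 * n + 1) {g : V ≃ₗ[F] V} (hg : El Q 1 g) :
    ∃ (K : Type u) (_ : Field K) (_ : DecidableEq K) (R : Multiset K), Frm p (Fintype.card F) n (orderOf g) R := by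
  classical
  have hpp := hp.out
  obtain ⟨n₀, n₁, n₂, Q₀, k, hsum, ev0, ev1, hQ₀, hkO, hno, hnm, hall, hzero⟩ :=
    Cfsg.Agent.H104.UpNine.dec (p := p) h2 hQ hg
  rw [hV] at hsum
  have hInv := inv_rts hQ₀ hkO hno hnm
  have hcard := card_rts (en k)
  simp only [finrank_fintype_fun_eq_card, Fintype.card_fin] at hcard
  have hex : ∀ {M N c : ℕ}, Bd (rts (en k)) M N → M ≤ p ^ c → k ^ (N * p ^ c) = 1 := by
    intro M N c hB hc
    apply en_inj
    rw [en_pow]
    exact pow_eq_one_of_bd hB hc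
  obtain ⟨t0, ht0⟩ := ev0
  obtain ⟨t1, ht1⟩ := ev1
  refine ⟨AlgebraicClosure F, inferInstance, inferInstance, rts (en k), frob_inj F, hInv, by omega, ?_, ?_⟩
  · refine ⟨2 * n + 1, fun E hE hR => ?_⟩
    have h1 : 2 * n + 1 < p ^ (2 * n + 1) := Nat.lt_pow_self hpp.one_lt
    have hB : Bd (rts (en k)) (2 * n + 1) E := ⟨fun x => (Multiset.count_le_card x _).trans (by omega), hR⟩
    exact hall (2 * n + 1) _ (by omega) (by omega) (Nat.mul_dvd_mul_right (even_iff_two_dvd.1 hE) _) (hex hB h1.le)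
  · intro μ hμ hmin
    have h1 : 2 * n ≤ (rts (en k)).card := d_le (frob_inj F) hInv hmin hμ
    have h3 : n₀ = 2 * n := by omega
    obtain ⟨hel, hz⟩ := hzero (by omega)
    obtain ⟨R', h4, h5, h6, h7, h8⟩ := peel (frob_inj F) hInv hmin
    have h9 : 1 ≤ (rts (en k)).count μ := Multiset.one_le_count_iff_mem.2 hμ
    have h8' : n₀ = (rts (en k)).count μ * (2 * n) + R'.card := hcard.symm.trans h8
    have h4' : rts (en k) = (rts (en k)).count μ • (orb (Fintype.card F) μ n).val + R' := h4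
    have h10 : (rts (en k)).count μ = 1 ∧ R'.card = 0 := by
      have h11 := Nat.mul_le_mul_right (2 * n) h9
      have h12 : (rts (en k)).count μ ≤ 1 := by
        by_contra hcon
        have := Nat.mul_le_mul_right (2 * n) (by omega : 2 ≤ (rts (en k)).count μ)
        omega
      have h13 : (rts (en k)).count μ = 1 := by omega
      rw [h13] at h8'
      exact ⟨h13, by omega⟩
    have hR : rts (en k) = (orb (Fintype.card F) μ n).val := by
      have h11 : R' = 0 := Multiset.card_eq_zero.1 h10.2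
      rw [h11, h10.1, one_nsmul, add_zero] at h4'
      exact h4'
    have key : ∀ N, k ^ N = 1 → orderOf g ∣ N := fun N h => hz 0 N (by rw [pow_zero]; omega) (by simp) h
    rcases Cfsg.Agent.H104.QSemiB.semi h2 hQ₀ hn (by simp [h3]) hel hmin hR with h | h
    · exact Or.inl (key _ (orderOf_dvd_iff_pow_eq_one.1 h))
    · exact Or.inr (key _ (orderOf_dvd_iff_pow_eq_one.1 h))

end

section group

variable {F : Type u} [Field F] [Fintype F]

/-- the frame of an element of `PΩ_{2n+1}(q)` -/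
theorem frm_omega (hodd : Odd (Fintype.card F)) {p : ℕ} [hp : Fact p.Prime] [CharP F p] {n : ℕ} (hn : 2 ≤ n)
    (x : Cfsg.POmega F (Cfsg.quadFormOdd n F)) :
    ∃ (K : Type u) (_ : Field K) (_ : DecidableEq K) (R : Multiset K), Frm p (Fintype.card F) n (orderOf x) R := by
  classical
  have h2 := Cfsg.Agent.H104.UpNine.two_ne hodd
  have h9 := Cfsg.Agent.LieClassical.OrthForms.nondeg_oddForm n F h2
  have hcard : Fintype.card (Unit ⊕ (Fin n ⊕ Fin n)) = 2 * n + 1 := by simp; omega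
  have key : ∀ (f : (Unit ⊕ (Fin n ⊕ Fin n) → F) → F) (hf : f = ⇑(Cfsg.Agent.LieClassical.OrthForms.oddForm n F))
      (x : Cfsg.POmega F f), ∃ (K : Type u) (_ : Field K) (_ : DecidableEq K) (R : Multiset K),
        Frm p (Fintype.card F) n (orderOf x) R := by
    intro f hf x
    subst hf
    obtain ⟨g, hg, ho⟩ := (Cfsg.Agent.H160.QFinal.range_POmega h2 h9 (by rw [hcard]; omega)
      (by rw [hcard]; exact odd_two_mul_add_one n) (orderOf x)).1 ⟨x, rfl⟩
    rw [← ho]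
    exact frm (p := p) h2 h9 (by omega) (by rw [finrank_fintype_fun_eq_card, hcard]) hg
  exact key _ (Cfsg.Agent.LieClassical.OrthForms.coe_oddForm n F).symm x

variable {p a k : ℕ}

theorem two_le_pow (hk : 3 ≤ k) : 2 ≤ 2 ^ k := by
  calc 2 = 2 ^ 1 := by norm_num
    _ ≤ 2 ^ k := Nat.pow_le_pow_right (by norm_num) (by omega)

theorem setup (hp : p.Prime) (hp2 : p ≠ 2) (ha : Odd a) (hF : Fintype.card F = p ^ a) :
    Odd (Fintype.card F) ∧ p ∣ Fintype.card F ∧ 3 ≤ Fintype.card F ∧ CharP F p := by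
  have h1 : Odd (Fintype.card F) := by
    rw [hF]
    exact (hp.odd_of_ne_two hp2).pow
  have h2 : p ∣ Fintype.card F := by
    rw [hF]
    exact dvd_pow_self p (by rintro rfl; exact absurd ha (by decide))
  have h3 := Fintype.one_lt_card (α := F)
  refine ⟨h1, h2, ?_, ?_⟩
  · obtain ⟨c, hc⟩ := h1
    omega
  · obtain ⟨r, hr⟩ := CharP.exists F
    obtain ⟨m, hrp, hm⟩ := FiniteField.card F r
    rw [hm] at h2
    have h4 := (Nat.prime_dvd_prime_iff_eq hp hrp).1 (hp.dvd_of_dvd_pow h2)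
    rw [h4]
    exact hr

variable (hp : p.Prime) (hp2 : p ≠ 2) (ha : Odd a) (hF : Fintype.card F = p ^ a) (hk : 3 ≤ k)
  (x : Cfsg.POmega F (Cfsg.quadFormOdd (2 ^ k) F))
include hp hp2 ha hF hk

theorem omega_iso (r : ℕ) (hr : r.Prime) (hrm : r ∣ mn (Fintype.card F) k) (hrx : r ∣ orderOf x) :
    orderOf x ∣ mn (Fintype.card F) k := by
  obtain ⟨h1, h2, h3, h4⟩ := setup hp hp2 ha hF
  have : Fact p.Prime := ⟨hp⟩
  obtain ⟨K, _, _, R, h⟩ := frm_omega (p := p) h1 (two_le_pow hk) x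
  exact h.iso hp h2 hk h1 h3 hr hrm hrx

theorem omega_two (j : ℕ) (hj : 2 ^ j ∣ orderOf x) : 2 ^ j ∣ mn (Fintype.card F) k - 1 := by
  obtain ⟨h1, h2, h3, h4⟩ := setup hp hp2 ha hF
  have : Fact p.Prime := ⟨hp⟩
  obtain ⟨K, _, _, R, h⟩ := frm_omega (p := p) h1 (two_le_pow hk) x
  exact h.two hp hp2 hk h1 h3 hj

theorem omega_tor (hs : ∀ i, 1 ≤ i → i < k → ∃ s : ℕ, s.Prime ∧ s ≠ 2 ∧ s ∣ Fintype.card F ^ 2 ^ i + 1 ∧ s ∣ orderOf x) :
    ∃ j, orderOf x ∣ p ^ j * (Fintype.card F ^ 2 ^ k - 1) := by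
  obtain ⟨h1, h2, h3, h4⟩ := setup hp hp2 ha hF
  have : Fact p.Prime := ⟨hp⟩
  obtain ⟨K, _, _, R, h⟩ := frm_omega (p := p) h1 (two_le_pow hk) x
  exact h.tor hp h2 hk h1 h3 hs

omit x in
theorem omega_pr (r : ℕ) (hr : r.Prime) (hrd : r ∣ Nat.card (Cfsg.POmega F (Cfsg.quadFormOdd (2 ^ k) F))) :
    r = p ∨ ∃ i, 1 ≤ i ∧ i ≤ 2 ^ k ∧ r ∣ Fintype.card F ^ (2 * i) - 1 := by
  obtain ⟨h1, h2, h3, h4⟩ := setup hp hp2 ha hF
  have : Fact p.Prime := ⟨hp⟩
  have : Fact r.Prime := ⟨hr⟩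
  have : Finite (Cfsg.POmega F (Cfsg.quadFormOdd (2 ^ k) F)) := by
    unfold Cfsg.POmega
    infer_instance
  obtain ⟨x, hx⟩ := exists_prime_orderOf_dvd_card' r hrd
  obtain ⟨K, _, _, R, h⟩ := frm_omega (p := p) h1 (two_le_pow hk) x
  exact h.pr hp h1 h3 hr (by rw [hx])

end group

end Cfsg.Agent.H189.TP
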